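import Groth.Agent.H17.Genus1.Cubic
import Groth.Agent.H22Alg.GlobalFunctions
import Groth.Agent.H14VA.Regular

/-!
# Cohomology of a plane curve
-/

set_option autoImplicit false
set_option linter.style.haveILetI false
set_option backward.isDefEq.respectTransparency.types false

noncomputable section

universe u

open CategoryTheory CategoryTheory.Limits AlgebraicGeometry TopologicalSpace MvPolynomial

namespace Groth.Agent.H14Plane

attribute [local instance 10000] H10Coh.hasSheafifyAb H10Coh.hasWeakSheafifyAb H10Coh.hasExtAb H10Coh.enoughInjAb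

variable (k : Type u) [Field k]

theorem choose_two_sub (d : ℕ) (hd : 1 ≤ d) :
    Ring.choose (-(d : ℤ) + 2) 2 = (((d - 1) * (d - 2) / 2 : ℕ) : ℤ) := by
  rw [show (d - 1) * (d - 2) / 2 = Nat.choose (d - 1) 2 by rw [Nat.choose_two_right, Nat.sub_sub]]
  match d, hd with
  | 1, _ =>
    rw [show -((1 : ℕ) : ℤ) + 2 = ((1 : ℕ) : ℤ) by norm_num, Ring.choose_natCast]
    norm_num
  | 2, _ =>
    rw [show -((2 : ℕ) : ℤ) + 2 = ((0 : ℕ) : ℤ) by norm_num, Ring.choose_natCast]
    norm_num
  | m + 3, _ =>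
    rw [show -((m + 3 : ℕ) : ℤ) + 2 = -((m + 1 : ℕ) : ℤ) by push_cast; ring, Ring.choose_neg,
      show ((m + 1 : ℕ) : ℤ) + ((2 : ℕ) : ℤ) - 1 = ((m + 2 : ℕ) : ℤ) by push_cast; ring, Ring.choose_natCast]
    simp [Units.smul_def, Int.negOnePow_even (2 : ℤ) (by decide)]

theorem plane_curve (d : ℕ) (hd : 1 ≤ d) (G : LefPen.Form 2 k d) (hG0 : G.1 ≠ 0)
    [inst : ((LefPen.hypIdeal G).subscheme).Over (Spec (CommRingCat.of k))]
    (hinst : (LefPen.hypIdeal G).subscheme ↘ (Spec (CommRingCat.of k)) =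
      (LefPen.hypIdeal G).subschemeι ≫ CohB1.ProjSpace.toSpec 2 k) :
    Module.finrank k (Coh.HH (LefPen.hypIdeal G).subscheme (Coh.structureModule _) 0) = 1 ∧
      ConnectedSpace ↥((LefPen.hypIdeal G).subscheme) ∧
      Module.finrank k (Coh.HH (LefPen.hypIdeal G).subscheme (Coh.structureModule _) 1) = (d - 1) * (d - 2) / 2 := by
  let Gs : ∀ _ : Fin 1, LefPen.Form 2 k d := fun _ => G
  have hci : LefPen.ciIdeal Gs = LefPen.hypIdeal G := by
    unfold LefPen.ciIdeal
    exact le_antisymm (iSup_le fun _ => le_rfl) (le_iSup (fun _ : Fin 1 => LefPen.hypIdeal G) 0)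
  have hdimLE : H10Coh.CI.DimLE Gs := fun x hx => by
    obtain ⟨y, hy, hyq⟩ := H22Alg.ProjDim.exists_bot_point k 2
    have hlt : y < x := by
      show y.asHomogeneousIdeal.toIdeal < x.asHomogeneousIdeal.toIdeal
      rw [hy]
      refine bot_lt_iff_ne_bot.2 fun h => hG0 ?_
      have hG : G.1 ∈ x.asHomogeneousIdeal.toIdeal := hx 0
      rw [h] at hG
      exact (Submodule.mem_bot _).1 hG
    have h1 := H22Alg.ProjDim.qdim_lt k 2 hlt
    rw [hyq] at h1
    omega
  have hbij := H10Coh.CI.bijective_toGlobal (G := Gs) (by norm_num) (fun _ => hd) hdimLE (by norm_num)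
  have hconn := H10Coh.CI.geometricallyConnected_ci (G := Gs) (by norm_num) (fun _ => hd) hdimLE (by norm_num)
  have hdim := H10Coh.CI.dim_subscheme_le hdimLE
  rw [hci] at hbij hconn hdim
  let f := ((LefPen.hypIdeal G).subscheme) ↘ Spec (CommRingCat.of k)
  haveI : IsProper (CohB1.ProjSpace.toSpec 2 k) := H27Weil.isProper_toSpec 2 k
  haveI : IsProper f := by
    show IsProper (((LefPen.hypIdeal G).subscheme) ↘ Spec (CommRingCat.of k))
    rw [hinst]
    infer_instance
  have hd1 : topologicalKrullDim ((LefPen.hypIdeal G).subscheme) ≤ 1 := by exact_mod_cast hdim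
  have hh0 : Module.finrank k (Coh.HH ((LefPen.hypIdeal G).subscheme) (Coh.structureModule ((LefPen.hypIdeal G).subscheme)) 0) = 1 := by
    letI := H22Alg.GlobalFunctions.algΓ f
    let e : Coh.HH ((LefPen.hypIdeal G).subscheme) (Coh.structureModule ((LefPen.hypIdeal G).subscheme)) 0 ≃ₗ[k] Γ(((LefPen.hypIdeal G).subscheme), ⊤) :=
      { H10Coh.HH0Equiv (Coh.structureModule ((LefPen.hypIdeal G).subscheme)) with
        map_smul' := fun c x => (H10Coh.HH0Equiv_smul (Coh.structureModule ((LefPen.hypIdeal G).subscheme))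
          (f.appTop ((Scheme.ΓSpecIso (CommRingCat.of k)).inv c)) x).trans rfl }
    rw [e.finrank_eq]
    have hb : Function.Bijective (algebraMap k Γ(((LefPen.hypIdeal G).subscheme), ⊤)) := by
      rw [← hinst] at hbij
      show Function.Bijective (f.appTop ∘ (Scheme.ΓSpecIso (CommRingCat.of k)).inv)
      exact hbij
    exact (LinearEquiv.ofBijective (Algebra.linearMap k Γ(((LefPen.hypIdeal G).subscheme), ⊤)) hb).finrank_eq.symm.trans (Module.finrank_self k)
  refine ⟨hh0, ?_, ?_⟩
  · haveI := hconn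
    exact GeometricallyConnected.connectedSpace_of_subsingleton
      ((LefPen.hypIdeal G).subschemeι ≫ CohB1.ProjSpace.toSpec 2 k)
  let Q := CohB1.ProjSpace 2 k
  haveI : IsProper (Q ↘ Spec (CommRingCat.of k)) := H27Weil.isProper_toSpec 2 k
  haveI := H28Int.isNoetherian k (X := Q)
  haveI := H28Int.isNoetherian k (X := ((LefPen.hypIdeal G).subscheme))
  let I := LefPen.hypIdeal G
  let S : ShortComplex Q.Modules :=
    ShortComplex.mk (ClSub.idealModι I) (ClSub.toSubscheme I) (kernel.condition _)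
  have hS : S.ShortExact :=
    haveI : Mono S.f := inferInstanceAs (Mono (kernel.ι _))
    haveI : Epi S.g := H10Coh.epi_toSubscheme I
    { exact := ShortComplex.exact_kernel _ }
  obtain ⟨e0⟩ := H10Coh.CI.nonempty_idealMod_hypIdeal G hG0
  obtain ⟨e1⟩ := H10Coh.PnHodge.nonempty_zero 2 k
  haveI : (Coh.structureModule ((LefPen.hypIdeal G).subscheme)).IsQuasicoherent := H10Coh.isQuasicoherent_unit
  have h1 : Coh.IsCoh (ClSub.idealMod I) :=
    H10Coh.isCoh_of_iso e0.symm (H11Ample.isCoh_of_isInvertible (H22Alg.RegSheaf.isInvertible_twistProjSpace 2 k _))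
  have hadd := H25Euler.euler_add (k := k) hS h1 (H28Int.Surface.isCoh_structure k) (H25Par.isCoh_quotMod I)
  have hQ : Curv2.euler k Q (Coh.structureModule Q) = 1 := by
    have h := H17.Genus1.euler_twist k 0
    first
      | rw [H25Euler.euler_congr e1] at h
      | rw [← H25Euler.euler_congr e1] at h
    rw [h, show (0 : ℤ) + 2 = ((2 : ℕ) : ℤ) by norm_num, Ring.choose_natCast]
    norm_num
  have hI : Curv2.euler k Q (ClSub.idealMod I) = (((d - 1) * (d - 2) / 2 : ℕ) : ℤ) :=
    ((H25Euler.euler_congr e0).trans (H17.Genus1.euler_twist k _)).trans (choose_two_sub d hd)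
  have h : Curv2.euler k Q (ClSub.quotMod I) = Curv2.euler k ((LefPen.hypIdeal G).subscheme) (Coh.structureModule ((LefPen.hypIdeal G).subscheme)) :=
    H28Int.Push.euler_push k I.subschemeι hinst.symm (Coh.structureModule ((LefPen.hypIdeal G).subscheme))
  have hadd' : Curv2.euler k Q (Coh.structureModule Q) =
      Curv2.euler k Q (ClSub.idealMod I) + Curv2.euler k Q (ClSub.quotMod I) := hadd
  have hsum := H28Int.eulerCharLE_eq k (X := ((LefPen.hypIdeal G).subscheme)) (d := 1) (F := Coh.structureModule ((LefPen.hypIdeal G).subscheme)) hd1 H10Coh.isQuasicoherent_unit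
  rw [FGA.eulerCharLE, Finset.sum_range_succ, Finset.sum_range_one, hh0, pow_zero, pow_one] at hsum
  rw [← h] at hsum
  push_cast at hsum
  generalize (d - 1) * (d - 2) / 2 = g at hI
  omega

end Groth.Agent.H14Plane
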